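import Cfsg.Agent.H820.SL32
import Cfsg.Agent.H820.SevenMat
import Cfsg.Agent.CpAutMSeven.Quo
import Cfsg.Agent.CpAutMSeven.NonReal
import Cfsg.Agent.MonsterU.CoFrameF
import Cfsg.Agent.MonsterU.CoFrameL2

/-!
# The group `C(s0) / ⟨s0⟩` is `SL(3, 2)` (helper820)

`s0` is the element of order 7 of `Co₁` with 64 fixed points on `Λ / 2Λ`.  The fixed space is a sum `A ⊕ B` of two 3-spaces
whose nonzero vectors are the 14 fixed classes of type 4; `C(s0)` normalises `A` and `B` (an element taking a vector of `A` to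
one of `B` would give an element of the frame stabiliser inducing the third power on `⟨s0⟩`, which does not exist in `M24`).
`exists_equiv` : `XX s0 ≃* SL(3, 2)`.
-/

set_option autoImplicit false
set_option maxRecDepth 100000

namespace Cfsg.Agent.H820.SevenL32

open Cfsg Cfsg.Agent.SporadicA Cfsg.Agent.SporadicStructure.Co0Matrix Cfsg.Agent.CoOneType.CoEval
open Cfsg.Agent.SporadicA.GolayBase Cfsg.Agent.SporadicStructure.Co0Base
open Cfsg.Agent.CpAutMSeven.Mat Cfsg.Agent.CpAutMSeven.RanksH Cfsg.Agent.CpAutMSeven.Faith Cfsg.Agent.CpAutMSeven.Quo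
open Cfsg.Agent.MonsterU.Lam2 (cl bf IsType L2)
open Cfsg.Agent.CpAutBig.SevenFix (r7)
open Cfsg.Agent.CpAutBig.SevenPerm (pi7 pi7_mem)
open Cfsg.Agent.LThreeMB (fr XX Zx)
open Cfsg.Agent.LThreeMB.Fix (el el_coe half_spec vec_addL)
open Cfsg.Agent.MonsterU.CoFrameL2 (f0)
open Cfsg.Spor (Co1)
open Subgroup (centralizer mem_centralizer_singleton_iff)

/-! ### No element of the frame stabiliser induces the third power -/

theorem vb0_eq : vb 0 = f0 := by
  obtain ⟨u, hu⟩ := SporadicA.Co1Simple.e8_sub (pt 0) none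
  have h1 : el (lb 0) = e8 (pt 0) := by
    apply Subtype.ext
    funext p
    rw [el_coe (lb_leech (by norm_num)), CpAutMSeven.Faith.e8_pt_coe 0 (by norm_num)]
    have h : ∀ i < 24, (lb 0).getD i 0 = if i = 0 then 8 else 0 := by decide
    exact h _ (idx_lt p)
  show cl (el (lb 0)) = cl (e8 none)
  rw [h1, hu, map_add, MonsterU.Lam2.cl_two, add_zero]

theorem s0_eq : s0 = CoOneType.CoOneE.pr (SporadicA.Co0Mono.signCo0 0 *
    SporadicA.Co0Mono.permCo0 (⟨pi7, pi7_mem⟩ : M24)) := by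
  rw [SporadicA.Co0Mono.signCo0_zero, one_mul]
  rfl

theorem no_cube {n : Co1} (hn : n • f0 = f0) (h : n * s0 = s0 ^ 3 * n) : False := by
  have hn' : n ∈ MonsterU.CoFrameF.F := (MonsterU.CoFrameL2.mem_F_iff n).2 hn
  have hs : s0 ∈ MonsterU.CoFrameF.F := by
    rw [s0_eq]
    exact MonsterU.CoFrameF.sp_mem_F _ _
  have h1 : (⟨n, hn'⟩ : MonsterU.CoFrameF.F) * ⟨s0, hs⟩ = ⟨s0, hs⟩ ^ 3 * ⟨n, hn'⟩ := Subtype.ext h
  have h2 := congrArg MonsterU.CoFrameF.toM24 h1
  rw [map_mul, map_mul, map_pow, MonsterU.CoFrameF.toM24_eq (x := ⟨s0, hs⟩) s0_eq] at h2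
  generalize MonsterU.CoFrameF.toM24 ⟨n, hn'⟩ = σ at h2
  have h3 : (⟨pi7, pi7_mem⟩ : M24) * σ⁻¹ = σ⁻¹ * (⟨pi7, pi7_mem⟩ : M24) ^ 3 := by
    rw [eq_inv_mul_iff_mul_eq, ← mul_assoc, h2, mul_assoc, mul_inv_cancel, mul_one]
  exact CpAutMSeven.NonReal.no_conj (σ⁻¹).2 (congrArg Subtype.val h3)

/-! ### The element `h` -/

/-- the image of `h` in `Co₁` -/
noncomputable def hh : Co1 := QuotientGroup.mk (e 2)

theorem hh_conj : hh⁻¹ * s0 * hh = s0 ^ 3 := by
  show (QuotientGroup.mk ((e 2)⁻¹ * r7 * e 2) : Co1) = QuotientGroup.mk (r7 ^ 3)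
  rw [h_conj]

theorem smul_vb_of {c : Co1} {A : Co0} {R : List (List ℤ)} (hc : c = QuotientGroup.mk A) (hR : Rep A R) {j m : ℕ}
    (hj : j < 6) (hok : LThreeMB.Fix.halfB (LThreeMB.Fix.addL (ap R (lb j)) (lc m)) = true) : c • vb j = cm m := by
  obtain ⟨u, hu⟩ := half_spec hok
  have h1 : ((A • el (lb j) : leechLattice) : GolayPt → ℤ) = vec (ap R (lb j)) :=
    hR.apply (LThreeMB.Fix.length_of_leechB (lb_leech hj)).le (el_coe (lb_leech hj))
  rw [vec_addL, ← h1, ← lcv_coe] at hu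
  apply MonsterU.Lam2.eq_of_add_eq_zero
  rw [hc]
  show cl (A • el (lb j)) + cl (lcv _) = 0
  rw [← map_add]
  exact MonsterU.Lam2.cl_eq_zero.2 ⟨u, Subtype.ext hu⟩

theorem hh_vb : hh • vb 0 = cm 8 := smul_vb_of rfl (rep 2) (by norm_num) SevenMat.hcol_ok

/-! ### Elements of the centralizer on the classes of type 4 -/

theorem w1_pow_cm (k m : ℕ) : w1 ^ k • cm m = cm (wm^[k] m) := by
  induction k with
  | zero => simp
  | succ k ih => rw [pow_succ', mul_smul, ih, w1_cm, Function.iterate_succ_apply']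

theorem w1_pow_comm (k : ℕ) : w1 ^ k * s0 = s0 * w1 ^ k := (Commute.pow_left w1_comm k)

theorem four_type {m : ℕ} (hm : m ∈ fours) : IsType 4 (cm m) := by
  have h : ∀ m ∈ fours, m < 64 ∧ dotL (tb m) (tb m) = 64 := by decide +kernel
  exact tb_type (h m hm).1 (by rw [(h m hm).2]; norm_num)

theorem fours_lt : ∀ m ∈ fours, m < 64 ∧ m ≠ 0 ∧ (m < 8 ∨ m % 8 = 0) := by decide

theorem cm_ne {m : ℕ} (hm : m < 64) (h : m ≠ 0) : cm m ≠ 0 := by
  intro h1
  exact h (cm_injective hm (by norm_num) (h1.trans cm_zero.symm))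

theorem smul_fixed {c : Co1} (hc : c * s0 = s0 * c) (m : ℕ) : s0 • c • cm m = c • cm m := by
  rw [← mul_smul, ← hc, mul_smul, smul_cm]

/-- An element of the centralizer permutes the fixed classes of type 4. -/
theorem exists_four {c : Co1} (hc : c * s0 = s0 * c) {m : ℕ} (hm : m ∈ fours) :
    ∃ m' ∈ fours, c • cm m = cm m' := by
  obtain ⟨m', h1, h2⟩ := exists_cm (smul_fixed hc m)
  refine ⟨m', ?_, h2.symm⟩
  by_contra h3
  have h4 : m' ≠ 0 := by
    rintro rfl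
    rw [cm_zero] at h2
    have h5 := congrArg (fun x : L2 => c⁻¹ • x) h2
    simp only [inv_smul_smul, smul_zero] at h5
    exact cm_ne (fours_lt m hm).1 (fours_lt m hm).2.1 h5.symm
  exact not_four h1 h4 h3 (by rw [h2]; exact (four_type hm).smul1 c)

theorem iter_B : ∀ m ∈ fours, ¬ m < 8 → ∃ k < 7, wm^[k] m = 8 := by decide +kernel

theorem iter_A : ∀ m < 8, m ≠ 0 → ∃ k < 7, wm^[k] 1 = m := by decide +kernel

theorem iter_B' : ∀ m ∈ fours, ¬ m < 8 → ∃ k < 7, wm^[k] 8 = m := by decide +kernel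

theorem cm_one : cm 1 = vb 0 := cm_pow (j := 0) (by norm_num)

theorem vb0_map {c : Co1} (hc : c * s0 = s0 * c) : ∃ m, m < 8 ∧ c • vb 0 = cm m := by
  have h1 : 1 ∈ fours := by decide
  obtain ⟨m, hm, h2⟩ := exists_four hc h1
  rw [cm_one] at h2
  by_cases h3 : m < 8
  · exact ⟨m, h3, h2⟩
  · exfalso
    obtain ⟨k, -, hk⟩ := iter_B m hm h3
    have h4 : (w1 ^ k * c) • vb 0 = hh • vb 0 := by
      rw [mul_smul, h2, w1_pow_cm, hk, hh_vb]
    have h5 : (hh⁻¹ * (w1 ^ k * c)) • f0 = f0 := by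
      rw [← vb0_eq, mul_smul, h4, inv_smul_smul]
    refine no_cube h5 ?_
    have h6 : (w1 ^ k * c) * s0 = s0 * (w1 ^ k * c) := by
      rw [mul_assoc, hc, ← mul_assoc, w1_pow_comm, mul_assoc]
    have h7 : s0 ^ 3 * hh⁻¹ = hh⁻¹ * s0 := by rw [← hh_conj]; group
    calc hh⁻¹ * (w1 ^ k * c) * s0 = hh⁻¹ * ((w1 ^ k * c) * s0) := by group
      _ = (hh⁻¹ * s0) * (w1 ^ k * c) := by rw [h6]; group
      _ = s0 ^ 3 * (hh⁻¹ * (w1 ^ k * c)) := by rw [← h7]; group

theorem A_map {c : Co1} (hc : c * s0 = s0 * c) {m : ℕ} (hm : m < 8) : ∃ m', m' < 8 ∧ c • cm m = cm m' := by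
  by_cases h0 : m = 0
  · subst h0
    exact ⟨0, by norm_num, by rw [cm_zero, smul_zero]⟩
  · obtain ⟨k, -, hk⟩ := iter_A m hm h0
    have h1 : (c * w1 ^ k) * s0 = s0 * (c * w1 ^ k) := by
      rw [mul_assoc, w1_pow_comm, ← mul_assoc, hc, mul_assoc]
    obtain ⟨m', h2, h3⟩ := vb0_map h1
    refine ⟨m', h2, ?_⟩
    rw [← h3, mul_smul, ← cm_one, w1_pow_cm, hk]

theorem comm_inv {c : Co1} (hc : c * s0 = s0 * c) : c⁻¹ * s0 = s0 * c⁻¹ := by
  rw [inv_mul_eq_iff_eq_mul, ← mul_assoc, hc, mul_assoc, mul_inv_cancel, mul_one]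

theorem B_map {c : Co1} (hc : c * s0 = s0 * c) {m : ℕ} (hm : m < 64) (h8 : m % 8 = 0) :
    ∃ m', m' < 64 ∧ m' % 8 = 0 ∧ c • cm m = cm m' := by
  by_cases h0 : m = 0
  · subst h0
    exact ⟨0, by norm_num, rfl, by rw [cm_zero, smul_zero]⟩
  · have h1 : ∀ m < 64, m % 8 = 0 → m ≠ 0 → m ∈ fours ∧ ¬ m < 8 := by decide
    obtain ⟨h2, h3⟩ := h1 m hm h8 h0
    obtain ⟨m', h4, h5⟩ := exists_four hc h2
    obtain ⟨h6, h7, h9⟩ := fours_lt m' h4
    rcases h9 with h9 | h9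
    · exfalso
      obtain ⟨m'', h10, h11⟩ := A_map (comm_inv hc) h9
      rw [← h5, inv_smul_smul] at h11
      exact h3 (cm_injective hm (by omega) h11 ▸ h10)
    · exact ⟨m', h6, h9, h5⟩

/-! ### The matrices on `A` -/

/-- columns as masks -/
def ofCols (l : List ℕ) : Matrix (Fin 3) (Fin 3) (ZMod 2) := fun i j => if (l.getD j 0).testBit i then 1 else 0

theorem ofCols_one : ofCols [1, 2, 4] = 1 := by decide

/-- the matrix of `c` on the first three basis vectors -/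
noncomputable def mat (c : Co1) : Matrix (Fin 3) (Fin 3) (ZMod 2) := fun i j => bf (c • vb j) (wb i)

theorem mat_of {c : Co1} {j : Fin 3} {m : ℕ} (h : c • vb j = cm m) (i : Fin 3) :
    mat c i j = if m.testBit i then 1 else 0 := by
  show bf (c • vb j) (wb i) = _
  rw [h, bf_cm m (by omega)]

theorem cm_three {m : ℕ} (hm : m < 8) : cm m = (if m.testBit 0 then vb 0 else 0) + ((if m.testBit 1 then vb 1 else 0) +
    (if m.testBit 2 then vb 2 else 0)) := by
  have h : ∀ m < 8, m.testBit 3 = false ∧ m.testBit 4 = false ∧ m.testBit 5 = false := by decide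
  obtain ⟨h3, h4, h5⟩ := h m hm
  rw [cm_eq, h3, h4, h5]
  simp

theorem smul_if (c : Co1) (b : Bool) (v : L2) : c • (if b then v else 0 : L2) = if b then c • v else 0 := by
  cases b
  · simp
  · simp

theorem bf_three (c : Co1) {m : ℕ} (hm : m < 8) (w : L2) : bf (c • cm m) w =
    (if m.testBit 0 then bf (c • vb 0) w else 0) + ((if m.testBit 1 then bf (c • vb 1) w else 0) +
    (if m.testBit 2 then bf (c • vb 2) w else 0)) := by
  rw [cm_three hm, smul_add, smul_add, smul_if, smul_if, smul_if]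
  simp only [MonsterU.Lam2.bf_add_left, bf_if]

theorem vb_lt {j : ℕ} (hj : j < 3) : vb j = cm (2 ^ j) ∧ 2 ^ j < 8 := by
  refine ⟨(cm_pow (by omega)).symm, ?_⟩
  interval_cases j <;> norm_num

theorem mat_mul {c d : Co1} (hd : d * s0 = s0 * d) : mat (c * d) = mat c * mat d := by
  ext i j
  obtain ⟨m, hm, h1⟩ : ∃ m, m < 8 ∧ d • vb j = cm m := by
    rw [(vb_lt j.2).1]
    exact A_map hd (vb_lt j.2).2
  rw [Matrix.mul_apply, Fin.sum_univ_three, mat_of h1, mat_of h1, mat_of h1]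
  show bf ((c * d) • vb j) (wb i) = bf (c • vb 0) (wb i) * _ + bf (c • vb 1) (wb i) * _ + bf (c • vb 2) (wb i) * _
  rw [mul_smul, h1, bf_three c hm, mul_ite, mul_ite, mul_ite, mul_one, mul_one, mul_one, mul_zero, mul_zero, mul_zero,
    add_assoc]
  rfl

theorem mat_one : mat 1 = 1 := by
  ext i j
  have h1 : (1 : Co1) • vb j = cm (2 ^ (j : ℕ)) := by rw [one_smul, (vb_lt j.2).1]
  have h2 : ∀ j : Fin 3, 2 ^ (j : ℕ) = [1, 2, 4].getD (j : ℕ) 0 := by decide
  rw [h2] at h1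
  rw [mat_of h1, ← ofCols_one]
  rfl

theorem det_mat {c : Co1} (hc : c * s0 = s0 * c) : (mat c).det = 1 := by
  have h1 : mat c * mat c⁻¹ = 1 := by rw [← mat_mul (comm_inv hc), mul_inv_cancel, mat_one]
  have h2 := congrArg Matrix.det h1
  rw [Matrix.det_mul, Matrix.det_one] at h2
  have h3 : ∀ a b : ZMod 2, a * b = 1 → a = 1 := by decide
  exact h3 _ _ h2

/-- **The action on `A`.** -/
noncomputable def Phi : ↥(centralizer ({s0} : Set Co1)) →* SL32.S3 where
  toFun c := ⟨mat c, det_mat (mem_centralizer_singleton_iff.1 c.2)⟩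
  map_one' := Subtype.ext mat_one
  map_mul' _ d := Subtype.ext (mat_mul (mem_centralizer_singleton_iff.1 d.2))

/-! ### The kernel -/

theorem eq_of_mat {c : Co1} (hc : c * s0 = s0 * c) (h : mat c = 1) {j : ℕ} (hj : j < 3) : c • vb j = vb j := by
  obtain ⟨m, hm, h1⟩ : ∃ m, m < 8 ∧ c • vb j = cm m := by
    rw [(vb_lt hj).1]
    exact A_map hc (vb_lt hj).2
  have h2 : ∀ i : Fin 3, (if m.testBit i then (1 : ZMod 2) else 0) = if (2 ^ j).testBit i then 1 else 0 := by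
    intro i
    have h3 := mat_of (j := ⟨j, hj⟩) h1 i
    have h4 : (1 : Co1) • vb j = cm (2 ^ j) := by rw [one_smul, (vb_lt hj).1]
    have h5 := mat_of (j := ⟨j, hj⟩) h4 i
    rw [h] at h3
    rw [mat_one] at h5
    rw [← h3, ← h5]
  have h3 : ∀ j < 3, ∀ m < 8, (∀ i : Fin 3, (if m.testBit i then (1 : ZMod 2) else 0) =
      if (2 ^ j).testBit i then 1 else 0) → m = 2 ^ j := by decide
  rw [h1, h3 j hj m hm h2, (vb_lt hj).1]

theorem bf_el {a b : List ℤ} (ha : leechB a = true) (hb : leechB b = true) :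
    bf (cl (el a)) (cl (el b)) = ((dotL a b / 8 : ℤ) : ZMod 2) := by
  rw [MonsterU.Lam2.bf_cl, MonsterU.Lam2.b0, el_coe ha, el_coe hb,
    dotInt_vec _ _ (LThreeMB.Fix.length_of_leechB ha).le]

theorem bf_vbvb {i j : ℕ} (hi : i < 6) (hj : j < 6) : bf (vb i) (vb j) = ((dotL (lb i) (lb j) / 8 : ℤ) : ZMod 2) :=
  bf_el (lb_leech hi) (lb_leech hj)

theorem bf_if_right (b : Bool) (v w : L2) : bf w (if b then v else 0) = if b then bf w v else 0 := by
  cases b
  · simp [MonsterU.Lam2.bf_zero_right]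
  · simp

theorem bf_vbcm {i : ℕ} (hi : i < 6) (m : ℕ) : bf (vb i) (cm m) =
    (if m.testBit 0 then ((dotL (lb i) (lb 0) / 8 : ℤ) : ZMod 2) else 0) +
    ((if m.testBit 1 then ((dotL (lb i) (lb 1) / 8 : ℤ) : ZMod 2) else 0) +
    ((if m.testBit 2 then ((dotL (lb i) (lb 2) / 8 : ℤ) : ZMod 2) else 0) +
    ((if m.testBit 3 then ((dotL (lb i) (lb 3) / 8 : ℤ) : ZMod 2) else 0) +
    ((if m.testBit 4 then ((dotL (lb i) (lb 4) / 8 : ℤ) : ZMod 2) else 0) +
    (if m.testBit 5 then ((dotL (lb i) (lb 5) / 8 : ℤ) : ZMod 2) else 0))))) := by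
  rw [cm_eq]
  simp only [MonsterU.Lam2.bf_add_right, bf_if_right]
  rw [bf_vbvb hi (by norm_num), bf_vbvb hi (by norm_num), bf_vbvb hi (by norm_num), bf_vbvb hi (by norm_num),
    bf_vbvb hi (by norm_num), bf_vbvb hi (by norm_num)]

theorem pairing : ∀ m < 64, m % 8 = 0 → (∀ i < 3,
    (if m.testBit 0 then ((dotL (lb i) (lb 0) / 8 : ℤ) : ZMod 2) else 0) +
    ((if m.testBit 1 then ((dotL (lb i) (lb 1) / 8 : ℤ) : ZMod 2) else 0) +
    ((if m.testBit 2 then ((dotL (lb i) (lb 2) / 8 : ℤ) : ZMod 2) else 0) +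
    ((if m.testBit 3 then ((dotL (lb i) (lb 3) / 8 : ℤ) : ZMod 2) else 0) +
    ((if m.testBit 4 then ((dotL (lb i) (lb 4) / 8 : ℤ) : ZMod 2) else 0) +
    (if m.testBit 5 then ((dotL (lb i) (lb 5) / 8 : ℤ) : ZMod 2) else 0))))) = 0) → m = 0 := by
  decide +kernel

theorem eq_zero_of_perp {m : ℕ} (hm : m < 64) (h8 : m % 8 = 0) (h : ∀ i < 3, bf (vb i) (cm m) = 0) : m = 0 :=
  pairing m hm h8 fun i hi => by rw [← bf_vbcm (by omega)]; exact h i hi

theorem xor_mod {a b : ℕ} (ha : a < 64) (hb : b < 64) (ha8 : a % 8 = 0) (hb8 : b % 8 = 0) :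
    (a ^^^ b) < 64 ∧ (a ^^^ b) % 8 = 0 ∧ ((a ^^^ b) = 0 → a = b) := by
  have h1 : ∀ a < 64, ∀ b < 64, (a ^^^ b) < 64 := by decide +kernel
  have h2 : ∀ a < 64, ∀ b < 64, (a ^^^ b) = 0 → a = b := by decide +kernel
  have h3 : ∀ a < 64, ∀ b < 64, a % 8 = 0 → b % 8 = 0 → (a ^^^ b) % 8 = 0 := by decide +kernel
  exact ⟨h1 a ha b hb, h3 a ha b hb ha8 hb8, h2 a ha b hb⟩

theorem fix_B {c : Co1} (hc : c * s0 = s0 * c) (h : mat c = 1) {m : ℕ} (hm : m < 64) (h8 : m % 8 = 0) :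
    c • cm m = cm m := by
  obtain ⟨m', h1, h2, h3⟩ := B_map hc hm h8
  obtain ⟨k1, k2, k3⟩ := xor_mod hm h1 h8 h2
  have h4 : (m ^^^ m') = 0 := by
    refine eq_zero_of_perp k1 k2 fun i hi => ?_
    rw [cm_xor, MonsterU.Lam2.bf_add_right, ← h3]
    have h5 : bf (vb i) (c • cm m) = bf (vb i) (cm m) := by
      rw [← MonsterU.Lam2.bf_smul1 c (vb i) (cm m), eq_of_mat hc h hi]
    rw [h5]
    exact CharTwo.add_self_eq_zero _
  rw [h3, k3 h4]

theorem fix_all {c : Co1} (hc : c * s0 = s0 * c) (h : mat c = 1) {v : L2} (hv : s0 • v = v) : c • v = v := by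
  have hfix : ∀ b : Bool, ∀ j < 6, c • (if b then vb j else 0 : L2) = if b then vb j else 0 := by
    intro b j hj
    rw [smul_if]
    have h1 : c • vb j = vb j := by
      by_cases h2 : j < 3
      · exact eq_of_mat hc h h2
      · have h3 : 2 ^ j < 64 ∧ 2 ^ j % 8 = 0 := by
          interval_cases j <;> simp_all
        rw [← cm_pow hj]
        exact fix_B hc h h3.1 h3.2
    rw [h1]
  obtain ⟨m, -, rfl⟩ := exists_cm hv
  rw [cm_eq]
  simp only [smul_add]
  rw [hfix _ 0 (by norm_num), hfix _ 1 (by norm_num), hfix _ 2 (by norm_num), hfix _ 3 (by norm_num),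
    hfix _ 4 (by norm_num), hfix _ 5 (by norm_num)]

theorem ker_Phi : Phi.ker = Zx s0 := by
  ext c
  have hc := mem_centralizer_singleton_iff.1 c.2
  rw [MonoidHom.mem_ker]
  constructor
  · intro h
    have h1 : mat c = 1 := congrArg Subtype.val h
    have h2 : (c : Co1) ∈ Subgroup.zpowers s0 := faith c hc fun v hv => fix_all hc h1 hv
    obtain ⟨i, hi⟩ := h2
    rw [Zx, Subgroup.mem_zpowers_iff]
    exact ⟨i, Subtype.ext hi⟩
  · intro h
    rw [Zx, Subgroup.mem_zpowers_iff] at h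
    obtain ⟨i, hi⟩ := h
    apply Subtype.ext
    show mat c = 1
    rw [← mat_one]
    ext i' j
    show bf ((c : Co1) • vb j) (wb i') = bf ((1 : Co1) • vb j) (wb i')
    have h2 : s0 ∈ MulAction.stabilizer Co1 (vb j) := smul_vb (by omega)
    have h3 : (c : Co1) ∈ MulAction.stabilizer Co1 (vb j) := by
      rw [← hi]
      exact (MulAction.stabilizer Co1 (vb j)).zpow_mem h2 i
    rw [MulAction.mem_stabilizer_iff.1 h3, one_smul]

/-! ### Surjectivity -/

/-- the sign change -/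
noncomputable def d1 : Co1 := QuotientGroup.mk (SevenMat.e 1)

theorem d1_comm : d1 * s0 = s0 * d1 := by
  have h := eq_one_of_oneB SevenMat.rep SevenMat.commD
  have h1 : SevenMat.e 1 * (SevenMat.e 0 * ((SevenMat.e 1)⁻¹ * ((SevenMat.e 0)⁻¹ * 1))) = 1 := by
    simpa [SevenMat.e] using h
  have h2 : SevenMat.e 1 * SevenMat.e 0 * (SevenMat.e 0 * SevenMat.e 1)⁻¹ = 1 := by rw [← h1]; group
  have h3 : SevenMat.e 1 * r7 = r7 * SevenMat.e 1 := by
    rw [r7_eq]
    exact mul_inv_eq_one.1 h2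
  show (QuotientGroup.mk (SevenMat.e 1 * r7) : Co1) = QuotientGroup.mk (r7 * SevenMat.e 1)
  rw [h3]

theorem d1_vb {j : ℕ} (hj : j < 3) : d1 • vb j = cm (SevenMat.dcol.getD j 0) :=
  smul_vb_of rfl (SevenMat.rep 1) (by omega) (SevenMat.dcol_ok j hj)

theorem mat_w1 : mat w1 = ofCols [2, 4, 3] := by
  ext i j
  have h1 : w1 • vb j = cm (wcol.getD j 0) := w1_vb (by omega)
  have key : ofCols wcol = ofCols [2, 4, 3] := by decide
  rw [mat_of h1, ← key]
  rfl

theorem mat_d1 : mat d1 = ofCols [1, 3, 4] := by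
  ext i j
  rw [mat_of (d1_vb j.2)]
  rfl

theorem dvd_range : 28 ∣ Nat.card Phi.range := by
  have hfin : Finite SL32.S3 := SL32.finite
  have key1 : ofCols [2, 4, 3] ^ 7 = 1 ∧ ofCols [2, 4, 3] ≠ 1 := by decide +kernel
  have key2 : (ofCols [1, 3, 4] * ofCols [2, 4, 3]) ^ 4 = 1 ∧ (ofCols [1, 3, 4] * ofCols [2, 4, 3]) ^ 2 ≠ 1 := by
    decide +kernel
  let w : ↥(centralizer ({s0} : Set Co1)) := ⟨w1, mem_centralizer_singleton_iff.2 w1_comm⟩
  let d : ↥(centralizer ({s0} : Set Co1)) := ⟨d1, mem_centralizer_singleton_iff.2 d1_comm⟩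
  have hw : (Phi w).1 = ofCols [2, 4, 3] := mat_w1
  have hd : (Phi d).1 = ofCols [1, 3, 4] := mat_d1
  have h7 : orderOf (Phi w) = 7 := by
    have : Fact (Nat.Prime 7) := ⟨by norm_num⟩
    apply orderOf_eq_prime
    · apply Subtype.ext
      rw [Matrix.SpecialLinearGroup.coe_pow]
      exact (congrArg (· ^ 7) hw).trans key1.1
    · intro h
      exact key1.2 (hw.symm.trans (congrArg Subtype.val h))
  have hdw : (Phi (d * w)).1 = ofCols [1, 3, 4] * ofCols [2, 4, 3] := by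
    rw [map_mul, Matrix.SpecialLinearGroup.coe_mul]
    exact congrArg₂ (· * ·) hd hw
  have h4 : orderOf (Phi (d * w)) = 2 ^ (1 + 1) := by
    have : Fact (Nat.Prime 2) := ⟨by norm_num⟩
    apply orderOf_eq_prime_pow
    · intro h
      have h1 := congrArg Subtype.val h
      rw [Matrix.SpecialLinearGroup.coe_pow] at h1
      exact key2.2 ((congrArg (· ^ 2) hdw).symm.trans h1)
    · apply Subtype.ext
      rw [Matrix.SpecialLinearGroup.coe_pow]
      exact (congrArg (· ^ 4) hdw).trans key2.1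
  have h1 : 7 ∣ Nat.card Phi.range := by
    have h := orderOf_dvd_natCard (⟨Phi w, w, rfl⟩ : Phi.range)
    rwa [← Subgroup.orderOf_coe, h7] at h
  have h2 : 4 ∣ Nat.card Phi.range := by
    have h := orderOf_dvd_natCard (⟨Phi (d * w), d * w, rfl⟩ : Phi.range)
    rwa [← Subgroup.orderOf_coe, h4] at h
  have h3 : 4 * 7 ∣ Nat.card Phi.range := Nat.Coprime.mul_dvd_of_dvd_of_dvd (by norm_num) h2 h1
  exact h3

theorem Phi_surjective : Function.Surjective Phi :=
  MonoidHom.range_eq_top.1 (SL32.eq_top_of_dvd _ dvd_range)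

/-- **`C(s0) / ⟨s0⟩ ≅ SL(3, 2)`.** -/
theorem exists_equiv : Nonempty (XX s0 ≃* SL32.S3) :=
  ⟨(QuotientGroup.quotientMulEquivOfEq ker_Phi.symm).trans
    (QuotientGroup.quotientKerEquivOfSurjective Phi Phi_surjective)⟩

theorem card_XX : Nat.card (XX s0) = 168 := by
  obtain ⟨f⟩ := exists_equiv
  rw [Nat.card_congr f.toEquiv, SL32.card]

theorem simple_XX : IsSimpleGroup (XX s0) := by
  obtain ⟨f⟩ := exists_equiv
  have := SL32.isSimple
  exact f.isSimpleGroup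

end Cfsg.Agent.H820.SevenL32
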