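import Cfsg.Agent.S0242
import Cfsg.Agent.S0249

/-!
# The group `SL(3, 2)` of order 168 (helper820)

`card`, `isSimple`, `noncomm`, and `eq_top_of_dvd` : a subgroup whose order is divisible by 28 is the whole group.
-/

set_option autoImplicit false

namespace Cfsg.Agent.H820.SL32

/-- `SL(3, 2)` -/
abbrev S3 : Type := Matrix.SpecialLinearGroup (Fin 3) (ZMod 2)

theorem card : Nat.card S3 = 168 := by
  have h := Cfsg.Agent.S0242.result (F := ZMod 2) (q := 2) (ZMod.card 2) 3 (by norm_num)
  rw [Fin.prod_univ_three] at h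
  have h1 : (2 ^ 3 - 2 ^ ((0 : Fin 3) : ℕ)) * (2 ^ 3 - 2 ^ ((1 : Fin 3) : ℕ)) *
      (2 ^ 3 - 2 ^ ((2 : Fin 3) : ℕ)) = 168 := rfl
  rw [h1] at h
  have h2 : (2 - 1) * Nat.card S3 = 168 := h
  omega

theorem finite : Finite S3 := Subtype.finite

theorem center_eq : Subgroup.center S3 = ⊥ := by
  rw [eq_bot_iff]
  intro A hA
  rw [Matrix.SpecialLinearGroup.mem_center_iff] at hA
  obtain ⟨r, hr, hA⟩ := hA
  rw [Subgroup.mem_bot]
  have h1 : r = 1 := by
    have key : ∀ r : ZMod 2, r = 0 ∨ r = 1 := by decide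
    rcases key r with h0 | h0
    · rw [h0] at hr
      exact absurd hr (by decide)
    · exact h0
  apply Subtype.ext
  rw [← hA, h1]
  simp

theorem isSimple : IsSimpleGroup S3 := by
  have h : IsSimpleGroup (Matrix.ProjectiveSpecialLinearGroup (Fin 3) (ZMod 2)) :=
    Cfsg.Agent.S0249.result 3 le_rfl
  have e : Matrix.ProjectiveSpecialLinearGroup (Fin 3) (ZMod 2) ≃* S3 :=
    (QuotientGroup.quotientMulEquivOfEq center_eq).trans QuotientGroup.quotientBot
  exact e.symm.isSimpleGroup

theorem noncomm : ∃ a b : S3, a * b ≠ b * a := by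
  by_contra h
  push Not at h
  have h1 : Subgroup.center S3 = ⊤ := by
    rw [eq_top_iff]
    intro a _
    rw [Subgroup.mem_center_iff]
    exact fun b => h b a
  rw [center_eq] at h1
  have h2 := card
  rw [← Subgroup.card_top (G := S3), ← h1, Subgroup.card_bot] at h2
  norm_num at h2

/-- In a simple group a proper subgroup `H` gives an embedding in the symmetric group on the cosets. -/
theorem card_dvd_factorial {G : Type*} [Group G] [Finite G] [IsSimpleGroup G] (H : Subgroup G) (hH : H ≠ ⊤) :
    Nat.card G ∣ H.index.factorial := by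
  classical
  have h1 : H.normalCore = ⊥ := by
    rcases (inferInstance : H.normalCore.Normal).eq_bot_or_eq_top with h | h
    · exact h
    · exact absurd (top_le_iff.1 (h ▸ H.normalCore_le)) hH
  have h2 : Function.Injective (MulAction.toPermHom G (G ⧸ H)) := by
    rw [← MonoidHom.ker_eq_bot_iff, ← Subgroup.normalCore_eq_ker, h1]
  have h3 := Subgroup.card_dvd_of_injective _ h2
  rw [Nat.card_perm] at h3
  exact h3

theorem eq_top_of_dvd (H : Subgroup S3) (h : 28 ∣ Nat.card H) : H = ⊤ := by
  by_contra hH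
  have := finite
  have := isSimple
  have h1 := card_dvd_factorial H hH
  have h2 := H.card_mul_index
  rw [card] at h1 h2
  obtain ⟨k, hk⟩ := h
  rw [hk] at h2
  have h3 : H.index ∣ 6 := ⟨k, by
    have : 28 * (H.index * k) = 28 * 6 := by linarith [h2, mul_comm k H.index, mul_assoc 28 k H.index]
    exact (Nat.eq_of_mul_eq_mul_left (by norm_num) this).symm⟩
  have h4 : 7 ∣ H.index.factorial := (by norm_num : 7 ∣ 168).trans h1
  rw [(by norm_num : Nat.Prime 7).dvd_factorial] at h4
  have h5 := Nat.le_of_dvd (by norm_num) h3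
  omega

end Cfsg.Agent.H820.SL32
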