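import Cfsg.Agent.H43.Eleven.Local
import Cfsg.Agent.BpSpor.MBigEleven

/-!
# S3403: the row `M`

`z` an involution with `C(z) = 2^{1+24}.Co1`, `r ∈ C(z)` of order 11. A conjugate `P'` of `P` centralises `r`.
If `P' = ⟨r⟩`, then `|C(z) : C(z) ∩ C(P')|` divides 15960, but `|C(z) ∩ C(r)| ≤ 4224`. Otherwise `|⟨r⟩ P'| = 11²`,
no involution centralises it, so `|C(r) ∩ C(P')|` is odd and 16 does not divide `|C(r)|`; but 32 divides `|C(r)|`
(fixed points of `r` on `O_2(C(z))`, of order `2^25`).
-/

set_option autoImplicit false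

namespace Cfsg.Agent.H820.ElM

open Subgroup Cfsg Cfsg.Agent.H43.Eleven
open Cfsg.Agent.BpSpor.MBigModel

universe u v

/-- fixed points of an element of order 11 on a normal subgroup of order `2^25` -/
theorem dvd_inf {C : Type u} [Group C] [Finite C] {N : Subgroup C} [hN : N.Normal] (hc : Nat.card ↥N = 2 ^ 25) {r : C}
    (hr : orderOf r = 11) : 32 ∣ Nat.card ↥(N ⊓ centralizer ({r} : Set C)) := by
  have : Fact (Nat.Prime 11) := ⟨by norm_num⟩
  let f : ↥(zpowers r) →* MulAut ↥N := MulAut.conjNormal.comp (zpowers r).subtype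
  let _ : MulAction ↥(zpowers r) ↥N := MulAction.compHom ↥N f
  have hp : IsPGroup 11 ↥(zpowers r) := IsPGroup.of_card (n := 1) (by rw [Nat.card_zpowers, hr, pow_one])
  have h1 := hp.card_modEq_card_fixedPoints ↥N
  have h2 : Nat.card ↑(MulAction.fixedPoints ↥(zpowers r) ↥N) = Nat.card ↥(N ⊓ centralizer ({r} : Set C)) := by
    refine Nat.card_congr
      { toFun := fun x => ⟨x.1.1, x.1.2, ?_⟩
        invFun := fun x => ⟨⟨x.1, x.2.1⟩, ?_⟩
        left_inv := fun _ => rfl
        right_inv := fun _ => rfl }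
    · refine mem_centralizer_singleton_iff.2 ?_
      have h3 := congrArg Subtype.val (x.2 ⟨r, mem_zpowers r⟩)
      have h4 : r * x.1.1 * r⁻¹ = x.1.1 := h3
      calc x.1.1 * r = r * x.1.1 * r⁻¹ * r := by rw [h4]
        _ = r * x.1.1 := by group
    · rintro ⟨s, hs⟩
      apply Subtype.ext
      show s * x.1 * s⁻¹ = x.1
      have h3 : x.1 * r = r * x.1 := mem_centralizer_singleton_iff.1 x.2.2
      obtain ⟨k, rfl⟩ := hs
      have h4 : Commute x.1 (r ^ k) := (show Commute x.1 r from h3).zpow_right k
      show r ^ k * x.1 * (r ^ k)⁻¹ = x.1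
      rw [← h4.eq, mul_inv_cancel_right]
  rw [h2, hc] at h1
  have h3 : IsPGroup 2 ↥(N ⊓ centralizer ({r} : Set C)) :=
    (IsPGroup.of_card (p := 2) hc).to_le inf_le_left
  obtain ⟨k, hk⟩ := IsPGroup.iff_card.1 h3
  rw [hk] at h1 ⊢
  by_cases h5 : 5 ≤ k
  · exact pow_dvd_pow 2 h5
  · exfalso
    push Not at h5
    revert h1
    interval_cases k <;> decide

/-- disjoint commuting subgroups -/
theorem card_sup {C : Type u} [Group C] {A B : Subgroup C} (hd : Disjoint A B)
    (hc : ∀ (a : ↥A) (b : ↥B), Commute (A.subtype a) (B.subtype b)) :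
    Nat.card ↥(A ⊔ B : Subgroup C) = Nat.card ↥A * Nat.card ↥B := by
  have hF : Function.Injective (MonoidHom.noncommCoprod A.subtype B.subtype hc) := by
    rw [MonoidHom.noncommCoprod_injective]
    refine ⟨subtype_injective _, subtype_injective _, ?_⟩
    rw [range_subtype, range_subtype]
    exact hd
  have h9 : (MonoidHom.noncommCoprod A.subtype B.subtype hc).range = A ⊔ B := by
    rw [MonoidHom.noncommCoprod_range, range_subtype, range_subtype]
  rw [← h9, ← Nat.card_congr (MonoidHom.ofInjective hF).toEquiv, Nat.card_prod]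

theorem row_model : Row MG := by
  intro hc P hP hl
  exfalso
  have hfin := finite
  have hs := simple
  have h11 : Fact (Nat.Prime 11) := ⟨by norm_num⟩
  have h2' : Fact (Nat.Prime 2) := ⟨Nat.prime_two⟩
  -- an element of order 11 in `C(z)`
  obtain ⟨x, hx⟩ := exists_prime_orderOf_dvd_card' (G := ↥(centralizer ({zz} : Set MG))) 11
    (by rw [card_cent_z]; norm_num)
  have hxo : orderOf (x : MG) = 11 := by rw [Subgroup.orderOf_coe, hx]
  have hcomm : ∃ a b : MG, a * b ≠ b * a := hc
  obtain ⟨g, hg⟩ := hP.conj_le_cent hxo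
  have hP' := hP.conj g
  have hl' := hl.conj g
  -- proper subgroups
  have hne : ∀ y : MG, y ≠ 1 → centralizer ({y} : Set MG) ≠ ⊤ := by
    intro y hy ht
    apply hy
    have h1 : y ∈ center MG := by
      rw [mem_center_iff]
      intro w
      exact mem_centralizer_singleton_iff.1 (ht ▸ mem_top w : w ∈ centralizer ({y} : Set MG))
    rwa [center_model, mem_bot] at h1
  have hfac : ∀ (A B : Subgroup MG), Nat.card ↥A = Nat.card ↥(A ⊓ B) * B.relIndex A := by
    intro A B
    rw [← inf_relIndex_left]
    have := card_mul_index ((A ⊓ B).subgroupOf A)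
    rw [Nat.card_congr (subgroupOfEquivOfLe inf_le_left).toEquiv] at this
    rw [← this]
    rfl
  by_cases heq : cj g P = zpowers (x : MG)
  · -- `P' = ⟨x⟩ ≤ C(z)`
    have hle : cj g P ≤ centralizer ({zz} : Set MG) := by
      rw [heq, zpowers_le]; exact x.2
    have h1 := hP'.relIndex_dvd hl' (hne zz zz_ne) hle
    have h2 := hfac (centralizer ({zz} : Set MG)) (centralizer (cj g P : Set MG))
    have h3 : Nat.card ↥(centralizer ({zz} : Set MG) ⊓ centralizer (cj g P : Set MG)) ≤ 4224 := by
      refine le_trans (card_le_of_le (inf_le_inf_left _ ?_)) (Cfsg.Agent.BpSpor.MBigEleven.card_inf hx)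
      refine centralizer_le ?_
      rw [Set.singleton_subset_iff, heq]
      exact mem_zpowers _
    have h4 : (centralizer (cj g P : Set MG)).relIndex (centralizer ({zz} : Set MG)) ≤ 15960 :=
      Nat.le_of_dvd (by norm_num) h1
    have h5 := Nat.mul_le_mul h3 h4
    rw [← h2, card_cent_z] at h5
    norm_num at h5
  · -- `|⟨x⟩ P'| = 11²`
    have h1 := hP'.relIndex_dvd hl' (hne x.1 (fun h => by rw [h, orderOf_one] at hxo; omega)) hg
    have h2 := hfac (centralizer ({(x : MG)} : Set MG)) (centralizer (cj g P : Set MG))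
    have h3 : ¬ 2 ∣ Nat.card ↥(centralizer ({(x : MG)} : Set MG) ⊓ centralizer (cj g P : Set MG)) := by
      intro hd
      obtain ⟨t, ht⟩ := exists_prime_orderOf_dvd_card' 2 hd
      have hto : orderOf (t : MG) = 2 := by rw [Subgroup.orderOf_coe, ht]
      apply not_sq (Or.inl rfl) hto
      have h4 : cj g P ⊔ zpowers (x : MG) ≤ centralizer ({(t : MG)} : Set MG) := by
        refine sup_le ?_ ?_
        · intro p hp
          rw [mem_centralizer_singleton_iff]
          exact mem_centralizer_iff.1 t.2.2 p hp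
        · rw [zpowers_le, mem_centralizer_singleton_iff]
          exact (mem_centralizer_singleton_iff.1 t.2.1).symm
      refine dvd_trans ?_ (card_dvd_of_le h4)
      have h5 : Nat.card ↥(zpowers (x : MG)) = 11 := by rw [Nat.card_zpowers, hxo]
      have h6 : Disjoint (cj g P) (zpowers (x : MG)) := by
        rw [disjoint_iff]
        apply inf_eq_bot_of_not_le hP'.card
        intro hcon
        apply heq
        have : Finite ↥(zpowers (x : MG)) := inferInstance
        exact eq_of_le_of_card_ge hcon (by rw [h5, hP'.card])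
      have h7 : ∀ (a : ↥(cj g P)) (b : ↥(zpowers (x : MG))),
          Commute ((cj g P).subtype a) ((zpowers (x : MG)).subtype b) := by
        rintro ⟨a, ha⟩ ⟨b, k, rfl⟩
        exact (show Commute a (x : MG) from mem_centralizer_singleton_iff.1 (hg ha)).zpow_right k
      have h8 : Nat.card ↥(cj g P ⊔ zpowers (x : MG) : Subgroup MG) = 11 ^ 2 := by
        rw [card_sup h6 h7, hP'.card, h5, pow_two]
      rw [h8]
    have h4 : 32 ∣ Nat.card ↥(centralizer ({(x : MG)} : Set MG)) := by
      have hk : Nat.card ↥pi.ker = 2 ^ 25 := by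
        have h5 := card_mul_index pi.ker
        rw [index_ker, MonoidHom.range_eq_top.2 chart.pi_surj, card_top, card_cent_z, Cfsg.Agent.BpSpor.MBigCo.card_co1] at h5
        exact Nat.eq_of_mul_eq_mul_right (by norm_num) h5
      have h5 := dvd_inf hk hx
      refine h5.trans ?_
      have h6 : (pi.ker ⊓ centralizer ({x} : Set ↥(centralizer ({zz} : Set MG)))).map
          (centralizer ({zz} : Set MG)).subtype ≤ centralizer ({(x : MG)} : Set MG) := by
        rintro _ ⟨y, hy, rfl⟩
        rw [mem_centralizer_singleton_iff]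
        exact congrArg Subtype.val (mem_centralizer_singleton_iff.1 hy.2)
      have h7 := card_dvd_of_le h6
      rwa [card_map_of_injective (subtype_injective _)] at h7
    rw [h2] at h4
    have h5 : Nat.Coprime 32 (Nat.card ↥(centralizer ({(x : MG)} : Set MG) ⊓ centralizer (cj g P : Set MG))) := by
      have := (Nat.coprime_primes Nat.prime_two Nat.prime_two)
      have h6 : Nat.Coprime 2 (Nat.card ↥(centralizer ({(x : MG)} : Set MG) ⊓ centralizer (cj g P : Set MG))) :=
        (Nat.Prime.coprime_iff_not_dvd Nat.prime_two).2 h3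
      exact Nat.Coprime.pow_left 5 h6
    have h6 := (h5.dvd_of_dvd_mul_left h4).trans h1
    revert h6
    decide

theorem row_M {X : Type u} [Group X] (hX : Spor.IsoM X) : Row X := by
  obtain ⟨e⟩ := hX
  obtain ⟨e'⟩ := MonsterP.Equiv.equiv
  exact row_congr (e.trans e') row_model

end Cfsg.Agent.H820.ElM
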