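import Cfsg.Agent.H820.ElTool
import Cfsg.Agent.KFacts.FiTTh.Quasi

/-!
# S3403: the row `Fi23`

`2.Fi22` is a proper quasisimple subgroup.
-/

set_option autoImplicit false

namespace Cfsg.Agent.H820.ElFi23

open Subgroup Cfsg Cfsg.Agent.H43.Eleven

universe u v

theorem row : Row Spor.Fi23 := by
  intro _ P hP hl
  exfalso
  have hc : Nat.card Spor.Fi23 = 4089470473293004800 := Fischer.Fi23Simple.card_Fi23
  have hfin : Finite Spor.Fi23 := Nat.finite_of_card_ne_zero (by rw [hc]; norm_num)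
  obtain ⟨hz, ⟨e⟩, -⟩ := KFacts.FiTTh.Quasi.cover
  have h22 : Nat.card Spor.Fi22 = 64561751654400 := S1696.result.2
  have hK : Nat.card ↥(Fischer.Fi23Class.K) = 129123503308800 := by
    rw [card_eq_card_quotient_mul_card_subgroup (center ↥(Fischer.Fi23Class.K)), hz, Nat.card_congr e.toEquiv, h22]
  exact ElTool.false_of_quasi hP hl (by rw [hc]; norm_num) (M := Fischer.Fi23Class.K) KFacts.FiTTh.Quasi.qs_K
    (by rw [hK]; norm_num) (by rw [hz]; norm_num) (by rw [hK, hc]; norm_num) (by rw [hK]; norm_num)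

theorem row_Fi23 {X : Type u} [Group X] (hX : Spor.IsoFi23 X) : Row X := by
  obtain ⟨e⟩ := hX
  exact row_congr e row

end Cfsg.Agent.H820.ElFi23
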