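import Cfsg.Agent.H820.ElTool
import Cfsg.Agent.CTwoTab.HN
import Cfsg.Agent.S1701

/-!
# S3403: the row `HN`

`2.HS` is a proper quasisimple subgroup.
-/

set_option autoImplicit false

namespace Cfsg.Agent.H820.ElHN

open Subgroup Cfsg Cfsg.Agent.H43.Eleven

universe u v

theorem row : Row Spor.HN := by
  intro _ P hP hl
  exfalso
  have hc : Nat.card Spor.HN = 273030912000000 := S1701.result.2
  have hfin : Finite Spor.HN := Nat.finite_of_card_ne_zero (by rw [hc]; norm_num)
  have hM : Nat.card ↥CTwoTab.HN.N = 88704000 := by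
    rw [← CTwoTab.HN.card_K]
    exact (Nat.card_congr CTwoTab.HN.eN.toEquiv).symm
  have hz : Nat.card ↥(center ↥CTwoTab.HN.N) = 2 := by
    rw [← Nat.card_congr (centerCongr CTwoTab.HN.eN).toEquiv]
    exact CTwoTab.HN.dbl.1
  exact ElTool.false_of_quasi hP hl (by rw [hc]; norm_num) CTwoTab.HN.qs_N (by rw [hM]; norm_num) (by rw [hz]; norm_num)
    (by rw [hM, hc]; norm_num) (by rw [hM]; norm_num)

theorem row_HN {X : Type u} [Group X] (hX : Spor.IsoHN X) : Row X := by
  obtain ⟨e⟩ := hX
  exact row_congr e row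

end Cfsg.Agent.H820.ElHN
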