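import Cfsg.Agent.H820.ElTool
import Cfsg.Agent.TypeM.FactsLy
import Cfsg.Agent.KFacts.MulFi24.Double

/-!
# S3403: the row `Ly`

`2.A11` is a proper quasisimple subgroup.
-/

set_option autoImplicit false

namespace Cfsg.Agent.H820.ElLy

open Subgroup Cfsg Cfsg.Agent.H43.Eleven

universe u v

theorem row : Row Spor.Ly := by
  intro _ P hP hl
  exfalso
  obtain ⟨hfin, -, hc, -⟩ := TypeM.FactsLy.facts (M := Spor.Ly) ⟨MulEquiv.refl _⟩
  have hd := TypeM.FactsLy.isNonsplit_ly
  have hs : IsSimpleGroup ↥(alternatingGroup (Fin 11)) := alternatingGroup.isSimpleGroup (by norm_num)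
  have hA : Nat.card ↥(alternatingGroup (Fin 11)) = 19958400 := by
    have h2 := two_mul_nat_card_alternatingGroup (α := Fin 11)
    rw [Nat.card_perm, Nat.card_fin] at h2
    have h3 : Nat.factorial 11 = 39916800 := by decide
    omega
  obtain ⟨hz, ⟨e⟩, -⟩ := hd
  have hM := card_eq_card_quotient_mul_card_subgroup (center ↥(centralizer ({Ly.Pres.gens 0 ^ 4} : Set Spor.Ly)))
  rw [hz, Nat.card_congr e.toEquiv, hA] at hM
  have hp : commutator ↥(alternatingGroup (Fin 11)) = ⊤ := ElTool.perfect_of hs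
    (ElTool.ncomm hs (ElTool.not_prime_of_two (by rw [hA]; norm_num) (by rw [hA]; norm_num)))
  have hq : IsQuasisimple ↥(centralizer ({Ly.Pres.gens 0 ^ 4} : Set Spor.Ly)) :=
    ⟨⟨KFacts.MulFi24.Double.perfect_of_double TypeM.FactsLy.isNonsplit_ly hp⟩,
      MulEquiv.isSimpleGroup e⟩
  exact ElTool.false_of_quasi hP hl (by rw [hc]; norm_num) hq (by rw [hM]; norm_num) (by rw [hz]; norm_num)
    (by rw [hM, hc]; norm_num) (by rw [hM]; norm_num)

theorem row_Ly {X : Type u} [Group X] (hX : Spor.IsoLy X) : Row X := by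
  obtain ⟨e⟩ := hX
  exact row_congr e row

end Cfsg.Agent.H820.ElLy
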