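import Cfsg.Agent.H820.ElTool
import Cfsg.Agent.SporadicB.ON45Sub
import Cfsg.Agent.S1699

/-!
# S3403: the row `ON`

`M11` is a proper simple subgroup.
-/

set_option autoImplicit false

namespace Cfsg.Agent.H820.ElON

open Subgroup Cfsg Cfsg.Agent.H43.Eleven

universe u v

theorem row : Row Spor.ON := by
  intro _ P hP hl
  exfalso
  have hc : Nat.card Spor.ON = 460815505920 := S1699.result.2
  have hfin : Finite Spor.ON := Nat.finite_of_card_ne_zero (by rw [hc]; norm_num)
  obtain ⟨hs, h11⟩ := SporadicB.ON45Sub.isM11 S1699.result.1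
  exact ElTool.false_of_sub hP hl (by rw [hc]; norm_num) hs (by rw [h11]; norm_num) (by rw [h11]; norm_num)
    (by rw [h11, hc]; norm_num) (by rw [h11]; norm_num)

theorem row_ON {X : Type u} [Group X] (hX : Spor.IsoON X) : Row X := by
  obtain ⟨e⟩ := hX
  exact row_congr e row

end Cfsg.Agent.H820.ElON
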