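import Cfsg.Agent.H820.ElFi22
import Cfsg.Agent.H820.ElFi23
import Cfsg.Agent.H820.ElFi24
import Cfsg.Agent.H820.ElHN
import Cfsg.Agent.H820.ElLy
import Cfsg.Agent.H820.ElON
import Cfsg.Agent.H820.ElB

/-!
# S3403: the rows `Fi22, Fi23, Fi24', HN, Ly, ON, B`
-/

set_option autoImplicit false

namespace Cfsg.Agent.H820.ElSeven

open Cfsg Cfsg.Agent.H43.Eleven

universe u

variable {X : Type u} [Group X]

theorem row_Fi22 (h : Spor.IsoFi22 X) : Row X := ElFi22.row_Fi22 h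
theorem row_Fi23 (h : Spor.IsoFi23 X) : Row X := ElFi23.row_Fi23 h
theorem row_Fi24' (h : Spor.IsoFi24' X) : Row X := ElFi24.row_Fi24' h
theorem row_HN (h : Spor.IsoHN X) : Row X := ElHN.row_HN h
theorem row_Ly (h : Spor.IsoLy X) : Row X := ElLy.row_Ly h
theorem row_ON (h : Spor.IsoON X) : Row X := ElON.row_ON h
theorem row_B (h : Spor.IsoB X) : Row X := ElB.row_B h

end Cfsg.Agent.H820.ElSeven
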