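import Cfsg.Agent.MonsterU.ChartOf
import Cfsg.Agent.LThreeMB.Simp
import Cfsg.Agent.S1313
import Cfsg.Prelude.Def_MonsterType

/-!
# Groups of Monster type have a chart (helper820)

`Data hM` : for `hM : IsOfMonsterType z Q` (with `psi : leechLattice → Q ⧸ Z(Q)` and `e : C(z) ⧸ Q ≃* Co1`) there is a chart
`Chart (Q.map C(z).subtype) z eta pi` with `pi c = e (mk c)` and `psi v = mk q ↔ eta q = cl v`.
-/

set_option autoImplicit false

namespace Cfsg.Agent.H820.Bridge

open Cfsg Cfsg.Spor Cfsg.Agent.MonsterU Cfsg.Agent.MonsterU.Ch Cfsg.Agent.MonsterU.Lam2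
open Subgroup (centralizer mem_centralizer_singleton_iff)

variable {G : Type*} [Group G]

/-- `Q` as a subgroup of `G` -/
abbrev QG {z : G} (Q : Subgroup (centralizer ({z} : Set G))) : Subgroup G :=
  Q.map (centralizer ({z} : Set G)).subtype

theorem mem_QG {z : G} {Q : Subgroup (centralizer ({z} : Set G))} {x : G} :
    x ∈ QG Q ↔ ∃ hx : x ∈ centralizer ({z} : Set G), (⟨x, hx⟩ : centralizer ({z} : Set G)) ∈ Q := by
  constructor
  · rintro ⟨y, hy, rfl⟩
    exact ⟨y.2, hy⟩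
  · rintro ⟨hx, h⟩
    exact ⟨_, h, rfl⟩

theorem centralizer_le_of_setting [Finite G] {z : G} {Q : Subgroup (centralizer ({z} : Set G))} {w : ℕ}
    (h : IsExtraspecialCentralizerSetting z Q w) :
    centralizer (Q : Set (centralizer ({z} : Set G))) ≤ Q := by
  have h1 := Cfsg.Agent.S1313.centralizer_le (centralizer ({z} : Set G))
  rw [h.2.1] at h1
  exact h1

theorem large_of_setting [Finite G] {z : G} {Q : Subgroup (centralizer ({z} : Set G))} [Q.Normal] {w : ℕ}
    (h : IsExtraspecialCentralizerSetting z Q w) : Co2Type.Quad.Large (QG Q) z :=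
  large_of_raw z h.1 Q h.2.2.1 (centralizer_le_of_setting h)

/-- the projection `Q → Λ / 2Λ` is defined by `psi` -/
theorem exists_eta {z : G} {Q : Subgroup (centralizer ({z} : Set G))} [Q.Normal]
    {e : (centralizer ({z} : Set G)) ⧸ Q ≃* Spor.Co1} {ψ : leechLattice → Q ⧸ Subgroup.center Q}
    (hψ : IsLeechModTwoIso Q e ψ) :
    ∃ eta : G → L2, ∀ (v : leechLattice) (q : Q),
      ψ v = QuotientGroup.mk q ↔ eta ((q : centralizer ({z} : Set G)) : G) = cl v := by
  classical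
  obtain ⟨hadd, hsurj, hker, -⟩ := hψ
  have h0 : ψ 0 = 1 := (hker 0).2 ⟨0, by rw [add_zero]⟩
  have hneg : ∀ v, ψ (-v) = (ψ v)⁻¹ := by
    intro v
    have := hadd v (-v)
    rw [add_neg_cancel, h0] at this
    exact eq_inv_of_mul_eq_one_right this.symm
  have hiff : ∀ v w : leechLattice, ψ v = ψ w ↔ cl v = cl w := by
    intro v w
    rw [cl_eq, ← mul_inv_eq_one, ← hneg, ← hadd, hker, ← sub_eq_add_neg]
    simp only [two_nsmul]
  choose f hf using fun q : Q => hsurj (QuotientGroup.mk q)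
  refine ⟨fun x => if h : ∃ q : Q, ((q : centralizer ({z} : Set G)) : G) = x then cl (f h.choose) else 0, ?_⟩
  intro v q
  have hex : ∃ q' : Q, ((q' : centralizer ({z} : Set G)) : G) = ((q : centralizer ({z} : Set G)) : G) := ⟨q, rfl⟩
  have hq : hex.choose = q := Subtype.ext (Subtype.ext hex.choose_spec)
  simp only [dif_pos hex, hq]
  rw [← hf q, hiff]
  exact eq_comm

theorem exists_chart [Finite G] {z : G} {Q : Subgroup (centralizer ({z} : Set G))} [Q.Normal]
    (hS : IsExtraspecialCentralizerSetting z Q 12)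
    {e : (centralizer ({z} : Set G)) ⧸ Q ≃* Spor.Co1} {ψ : leechLattice → Q ⧸ Subgroup.center Q}
    (hψ : IsLeechModTwoIso Q e ψ) :
    ∃ (eta : G → L2) (pi : centralizer ({z} : Set G) →* Co1),
      Chart (QG Q) z eta pi ∧ (∀ c, pi c = e (QuotientGroup.mk c)) ∧
      ∀ (v : leechLattice) (q : Q),
        ψ v = QuotientGroup.mk q ↔ eta ((q : centralizer ({z} : Set G)) : G) = cl v := by
  obtain ⟨eta, heta⟩ := exists_eta hψ
  have L := large_of_setting hS
  have hψ0 := hψ
  obtain ⟨hadd, hsurj, hker, heq⟩ := hψ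
  refine ⟨eta, e.toMonoidHom.comp (QuotientGroup.mk' Q), ?_, fun c => rfl, heta⟩
  have key : ∀ q : Q, ∃ v : leechLattice, ψ v = QuotientGroup.mk q := fun q => hsurj _
  refine
    { large := L
      fin := inferInstance
      eta_mul := ?_
      eta_zero := ?_
      eta_surj := ?_
      eta_conj := ?_
      pi_surj := ?_ }
  · rintro _ ⟨x, hx, rfl⟩ _ ⟨y, hy, rfl⟩
    obtain ⟨v, hv⟩ := key ⟨x, hx⟩
    obtain ⟨w, hw⟩ := key ⟨y, hy⟩
    have h1 := (heta v ⟨x, hx⟩).1 hv
    have h2 := (heta w ⟨y, hy⟩).1 hw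
    have h3 := (heta (v + w) (⟨x, hx⟩ * ⟨y, hy⟩)).1 (by rw [hadd, hv, hw]; rfl)
    have h4 : eta ((x : G) * (y : G)) = cl (v + w) := h3
    show eta ((x : G) * (y : G)) = eta (x : G) + eta (y : G)
    rw [h4, map_add]
    exact congrArg₂ _ h1.symm h2.symm
  · rintro _ ⟨x, hx, rfl⟩
    have h1 := heta 0 ⟨x, hx⟩
    rw [(hker 0).2 ⟨0, by rw [add_zero]⟩, map_zero] at h1
    have h2 : (1 : Q ⧸ Subgroup.center Q) = QuotientGroup.mk ⟨x, hx⟩ ↔ (⟨x, hx⟩ : Q) ∈ Subgroup.center Q := by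
      rw [eq_comm]; exact QuotientGroup.eq_one_iff _
    rw [h2] at h1
    show eta (x : G) = 0 ↔ _
    refine h1.symm.trans ?_
    -- the centre of `Q`
    constructor
    · intro hc
      refine L.cent (x : G) ⟨x, hx, rfl⟩ ?_
      rintro _ ⟨y, hy, rfl⟩
      have := Subgroup.mem_center_iff.1 hc ⟨y, hy⟩
      exact (congrArg (fun t : Q => ((t : centralizer ({z} : Set G)) : G)) this).symm
    · intro hx1
      rw [Subgroup.mem_center_iff]
      intro y
      apply Subtype.ext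
      apply Subtype.ext
      show ((y : centralizer ({z} : Set G)) : G) * x = x * ((y : centralizer ({z} : Set G)) : G)
      rcases hx1 with h | h
      · have h' : (x : G) = 1 := h
        rw [h', mul_one, one_mul]
      · have h' : (x : G) = z := h
        rw [h']
        exact L.comm_z _ ⟨y, y.2, rfl⟩
  · intro v
    obtain ⟨w, rfl⟩ := cl_surjective v
    obtain ⟨q, hq⟩ := QuotientGroup.mk_surjective (ψ w)
    exact ⟨_, ⟨q, q.2, rfl⟩, (heta w q).1 hq.symm⟩
  · rintro c _ ⟨x, hx, rfl⟩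
    obtain ⟨v, hv⟩ := key ⟨x, hx⟩
    obtain ⟨g, hg⟩ := QuotientGroup.mk_surjective (e (QuotientGroup.mk c))
    have h1 := heq c g hg v ⟨x, hx⟩ hv
    have h2 := (heta (g • v) _).1 h1
    have h3 := (heta v ⟨x, hx⟩).1 hv
    show eta ((c : G) * (x : G) * (c : G)⁻¹) = (e (QuotientGroup.mk c)) • eta (x : G)
    rw [← hg]
    have h4 : eta ((c : G) * (x : G) * (c : G)⁻¹) = cl (g • v) := h2
    have h5 : eta (x : G) = cl v := h3
    rw [h4, h5]
    rfl
  · exact e.surjective.comp (QuotientGroup.mk'_surjective Q)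

/-- **The chart of a group of Monster type.** -/
theorem chart_of_type [Finite G] {z : G} {Q : Subgroup (centralizer ({z} : Set G))} [Q.Normal]
    (hM : IsOfMonsterType z Q) :
    ∃ (eta : G → L2) (pi : centralizer ({z} : Set G) →* Co1), Chart (QG Q) z eta pi := by
  obtain ⟨hS, e, ψ, hψ⟩ := hM
  obtain ⟨eta, pi, h, -⟩ := exists_chart hS hψ
  exact ⟨eta, pi, h⟩

/-- `z` is not weakly closed -/
theorem fused_of_setting {z : G} {Q : Subgroup (centralizer ({z} : Set G))} {w : ℕ}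
    (h : IsExtraspecialCentralizerSetting z Q w) : ∃ g : G, g * z * g⁻¹ ∈ QG Q ∧ g * z * g⁻¹ ≠ z := by
  obtain ⟨-, -, -, -, g, hg, hne⟩ := h
  exact ⟨g, mem_QG.2 hg, hne⟩

/-- **Simplicity from a chart.** -/
theorem isSimple [Finite G] {Q : Subgroup G} {z : G} {eta : G → L2} {pi : centralizer ({z} : Set G) →* Co1}
    (h : Chart Q z eta pi) (hfus : ∃ g : G, g * z * g⁻¹ ∈ Q ∧ g * z * g⁻¹ ≠ z) : IsSimpleGroup G := by
  have hs : IsSimpleGroup Co1 := Cfsg.Agent.S0399.result.1
  refine Cfsg.Agent.LThreeMB.Simp.isSimple h.large (by rw [h.card_Q]; norm_num) ?_ ?_ hfus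
  · intro N hPN hNt hNn
    let N' : Subgroup Co1 := (N.subgroupOf (centralizer ({z} : Set G))).map pi
    have hN' : N'.Normal := by
      refine ⟨?_⟩
      rintro _ ⟨n, hn, rfl⟩ g
      obtain ⟨c, rfl⟩ := h.pi_surj g
      refine ⟨c * n * c⁻¹, ?_, by rw [map_mul, map_mul, map_inv]⟩
      exact hNn c (mem_centralizer_singleton_iff.1 c.2) n hn
    rcases hN'.eq_bot_or_eq_top with h1 | h1
    · left
      apply le_antisymm _ hPN
      intro n hn
      have hnz : n ∈ centralizer ({z} : Set G) := mem_centralizer_singleton_iff.2 (hNt n hn)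
      have h2 : pi ⟨n, hnz⟩ ∈ N' := ⟨⟨n, hnz⟩, hn, rfl⟩
      rw [h1, Subgroup.mem_bot] at h2
      exact (h.pi_eq_one ⟨n, hnz⟩).1 h2
    · right
      apply le_antisymm (fun n hn => mem_centralizer_singleton_iff.2 (hNt n hn))
      intro c hc
      have h2 : pi ⟨c, hc⟩ ∈ N' := by rw [h1]; trivial
      obtain ⟨n, hn, hnc⟩ := h2
      have h3 := h.pi_eq.1 hnc
      have h4 : (n : G)⁻¹ * c ∈ N := hPN h3
      have h5 : (n : G) * ((n : G)⁻¹ * c) ∈ N := N.mul_mem hn h4
      rwa [mul_inv_cancel_left] at h5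
  · intro N htN hNn hNc
    -- the image in `Λ / 2Λ`
    let U : AddSubgroup L2 :=
      { carrier := {v | ∃ n ∈ N, n ∈ Q ∧ eta n = v}
        zero_mem' := ⟨1, N.one_mem, Q.one_mem, h.eta_one⟩
        add_mem' := by
          rintro _ _ ⟨a, ha, haQ, rfl⟩ ⟨b, hb, hbQ, rfl⟩
          exact ⟨a * b, N.mul_mem ha hb, Q.mul_mem haQ hbQ, h.eta_mul a haQ b hbQ⟩
        neg_mem' := by
          rintro _ ⟨a, ha, haQ, rfl⟩
          exact ⟨a, ha, haQ, (Lam2.neg_eq _).symm⟩ }
    have hU : U = ⊥ ∨ U = ⊤ := by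
      refine Lam2.irreducible U ?_
      rintro g _ ⟨a, ha, haQ, rfl⟩
      obtain ⟨c, hc⟩ := h.pi_surj (QuotientGroup.mk g)
      have hcz := mem_centralizer_singleton_iff.1 c.2
      refine ⟨(c : G) * a * (c : G)⁻¹, hNn c hcz a ha, h.large.conj_mem c hcz a haQ, ?_⟩
      rw [h.eta_conj c a haQ, hc]
      rfl
    rcases hU with h1 | h1
    · exfalso
      obtain ⟨g, hg, hne⟩ := hfus
      have h2 : eta (g * z * g⁻¹) ∈ U := ⟨_, hNc g hg, hg, rfl⟩
      rw [h1, AddSubgroup.mem_bot] at h2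
      rcases (h.eta_zero _ hg).1 h2 with h3 | h3
      · apply h.large.z_ne
        calc z = g⁻¹ * (g * z * g⁻¹) * g := by group
          _ = 1 := by rw [h3]; group
      · exact hne h3
    · intro q hq
      have h2 : eta q ∈ U := by rw [h1]; trivial
      obtain ⟨n, hn, hnQ, hnq⟩ := h2
      rcases (h.eta_eq hq hnQ).1 hnq.symm with h3 | h3
      · rw [h3]; exact hn
      · rw [h3]; exact N.mul_mem hn htN

/-- **Groups of Monster type are simple.** -/
theorem isSimple_of_type [Finite G] {z : G} {Q : Subgroup (centralizer ({z} : Set G))} [Q.Normal]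
    (hM : IsOfMonsterType z Q) : IsSimpleGroup G := by
  obtain ⟨eta, pi, h⟩ := chart_of_type hM
  exact isSimple h (fused_of_setting hM.1)

end Cfsg.Agent.H820.Bridge
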