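import Cfsg.Agent.H820.ElTool
import Cfsg.Agent.KFacts.FiTT.Final

/-!
# S3403: the row `Fi22`

`2.U6(2)` is a proper quasisimple subgroup.
-/

set_option autoImplicit false

namespace Cfsg.Agent.H820.ElFi22

open Subgroup Cfsg Cfsg.Agent.H43.Eleven

universe u v

theorem row_Fi22 {X : Type u} [Group X] (hX : Spor.IsoFi22 X) : Row X := by
  intro _ P hP hl
  exfalso
  obtain ⟨T, d, π, lift, B⟩ := KFacts.FiTT.exists_base hX
  have hc := B.card
  have hfin : Finite X := Nat.finite_of_card_ne_zero (by rw [hc]; norm_num)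
  have hi := B.index_C
  have hm := (centralizer ({d} : Set X)).card_mul_index
  rw [hi, hc] at hm
  have hC : Nat.card ↥(centralizer ({d} : Set X)) = 18393661440 := by omega
  have hF := B.facts
  refine ElTool.false_of_quasi hP hl (by rw [hc]; norm_num) (M := centralizer ({d} : Set X)) hF.quasi
    (by rw [hC]; norm_num) ?_ (by rw [hC, hc]; norm_num) (by rw [hC]; norm_num)
  refine ElTool.not_dvd_center fun x hx => ?_
  rcases hF.cc x.1 (fun y hy =>
    (congrArg Subtype.val (mem_center_iff.1 hx ⟨y, mem_centralizer_singleton_iff.2 hy⟩)).symm) with h | h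
  · exact Subtype.ext (by show x.1 * x.1 = 1; rw [h, mul_one])
  · exact Subtype.ext (by show x.1 * x.1 = 1; rw [h]; exact hF.dd)

end Cfsg.Agent.H820.ElFi22
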