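import Cfsg.Agent.H43.Eleven.Local
import Cfsg.Agent.Lib.ComponentSolvable
import Cfsg.Agent.CpQuot.Congr

/-!
# S3403: rows with a quasisimple subgroup of order divisible by 11

`|G|` is not divisible by `11²`; a proper quasisimple subgroup `N` of order divisible by 11 (centre of order prime
to 11), not of order 660 or 175560: no `P`.
-/

set_option autoImplicit false

namespace Cfsg.Agent.H820.ElTool

open Subgroup Cfsg Cfsg.Agent.H43.Eleven

universe u v

variable {G : Type u} [Group G] {P : Subgroup G}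

/-- a proper quasisimple subgroup of order divisible by 11 -/
theorem false_of_quasi [Finite G] (h : Cfg P) (hl : Loc P) (h2 : ¬ 11 ^ 2 ∣ Nat.card G) {M : Subgroup G}
    (hq : IsQuasisimple ↥M) (h11 : 11 ∣ Nat.card ↥M) (hz : ¬ 11 ∣ Nat.card ↥(center ↥M))
    (hlt : Nat.card ↥M ≠ Nat.card G) (hne : Nat.card ↥M ≠ 660 ∧ Nat.card ↥M ≠ 175560) : False := by
  have : Fact (Nat.Prime 11) := ⟨by norm_num⟩
  obtain ⟨y, hy⟩ := exists_prime_orderOf_dvd_card' (G := ↥M) 11 h11
  obtain ⟨g, hg⟩ := h.of_sq h2 (R := zpowers y.1) (by rw [Nat.card_zpowers, orderOf_coe, hy])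
  have hM : M ≠ ⊤ := by
    intro ht
    apply hlt
    rw [ht, card_top]
  have hPM : cj g P ≤ M := by rw [← hg, zpowers_le]; exact y.2
  have hcases : ∀ N : Subgroup ↥M, N.Normal → N ≤ center ↥M ∨ N = ⊤ := fun N hN =>
    (Cfsg.Agent.Lib.ComponentSolvable.quasisimple_normal_cases hq hN).symm
  have hcardP : Nat.card ↥((cj g P).subgroupOf M) = 11 := by
    rw [Nat.card_congr (subgroupOfEquivOfLe hPM).toEquiv]
    exact (h.conj g).card
  have hnn : ¬ M ≤ normalizer (cj g P : Set G) := by
    intro hcon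
    have hn : ((cj g P).subgroupOf M).Normal := by
      refine ⟨fun a ha m => ?_⟩
      rw [mem_subgroupOf] at ha ⊢
      exact (mem_normalizer_iff.1 (hcon m.2) a.1).1 ha
    rcases hcases _ hn with h0 | h1
    · apply hz
      have h3 := card_dvd_of_le h0
      rwa [hcardP] at h3
    · have h3 : M ≤ cj g P := subgroupOf_eq_top.1 h1
      have hs := hq.2
      have hc : center ↥M = ⊤ := by
        rw [eq_top_iff]
        intro x _
        rw [mem_center_iff]
        intro y
        exact Subtype.ext (comm_of_card (h.conj g).card _ (h3 y.2) _ (h3 x.2))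
      have : Subsingleton (↥M ⧸ center ↥M) := by
        rw [hc]
        exact QuotientGroup.subsingleton_quotient_top
      exact not_subsingleton _ this
  have hG : Good ↥M := (h.conj g).good_of_quasi (hl.conj g) hM hPM hnn hcases
  rcases hG.gf.card with h3 | h3
  · exact hne.1 h3
  · exact hne.2 h3

/-- the centre has order prime to 11 if its elements are of order 1 or 2 -/
theorem not_dvd_center {H : Type v} [Group H] [Finite H] (h : ∀ x ∈ center H, x * x = 1) :
    ¬ 11 ∣ Nat.card ↥(center H) := by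
  have : Fact (Nat.Prime 11) := ⟨by norm_num⟩
  intro hd
  obtain ⟨y, hy⟩ := exists_prime_orderOf_dvd_card' (G := ↥(center H)) 11 hd
  have h1 : y ^ 2 = 1 := by rw [pow_two]; exact Subtype.ext (h y.1 y.2)
  have h2 := orderOf_dvd_of_pow_eq_one h1
  rw [hy] at h2
  omega

/-- a simple group of composite order is not commutative -/
theorem ncomm {H : Type v} [Group H] (hs : IsSimpleGroup H) (hp : ¬ (Nat.card H).Prime) :
    ∃ a b : H, a * b ≠ b * a := by
  by_contra hc
  push Not at hc
  apply hp
  let _ : CommGroup H := { (inferInstance : Group H) with mul_comm := hc }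
  have : IsSimpleGroup H := hs
  exact IsSimpleGroup.prime_card (α := H)

theorem not_prime_of_two {n : ℕ} (h : 2 ∣ n) (h2 : n ≠ 2) : ¬ n.Prime := fun hp =>
  h2 ((Nat.prime_dvd_prime_iff_eq Nat.prime_two hp).1 h).symm

theorem perfect_of {H : Type v} [Group H] (hs : IsSimpleGroup H) (hc : ∃ a b : H, a * b ≠ b * a) :
    commutator H = ⊤ := by
  obtain ⟨a, b, hab⟩ := hc
  rcases (inferInstance : (commutator H).Normal).eq_bot_or_eq_top with h0 | h1
  · exfalso
    apply hab
    have h3 : a * b * a⁻¹ * b⁻¹ ∈ commutator H := commutator_mem_commutator (mem_top a) (mem_top b)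
    rw [h0, mem_bot] at h3
    have h4 : a * b * (b * a)⁻¹ = 1 := by rw [← h3]; group
    exact mul_inv_eq_one.1 h4
  · exact h1

/-- a proper simple subgroup -/
theorem false_of_sub [Finite G] (h : Cfg P) (hl : Loc P) (h2 : ¬ 11 ^ 2 ∣ Nat.card G) {M : Subgroup G}
    (hs : IsSimpleGroup ↥M) (he : 2 ∣ Nat.card ↥M) (h11 : 11 ∣ Nat.card ↥M) (hlt : Nat.card ↥M ≠ Nat.card G)
    (hne : Nat.card ↥M ≠ 660 ∧ Nat.card ↥M ≠ 175560) : False :=
  h.false_of_simple hl h2 M.subtype M.subtype_injective
    (ncomm hs (not_prime_of_two he fun hc => by rw [hc] at h11; omega)) h11 hlt hne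

/-- a proper simple subgroup -/
theorem false_of_hom [Finite G] (h : Cfg P) (hl : Loc P) (h2 : ¬ 11 ^ 2 ∣ Nat.card G) {H : Type v} [Group H]
    (hs : IsSimpleGroup H) (f : H →* G) (hf : Function.Injective f) (he : 2 ∣ Nat.card H) (h11 : 11 ∣ Nat.card H)
    (hlt : Nat.card H ≠ Nat.card G) (hne : Nat.card H ≠ 660 ∧ Nat.card H ≠ 175560) : False :=
  h.false_of_simple hl h2 f hf
    (ncomm hs (not_prime_of_two he fun hc => by rw [hc] at h11; omega)) h11 hlt hne

/-- the same for the image of an injective homomorphism -/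
theorem false_of_quasi_hom [Finite G] (h : Cfg P) (hl : Loc P) (h2 : ¬ 11 ^ 2 ∣ Nat.card G) {H : Type v} [Group H]
    (f : H →* G) (hf : Function.Injective f) (hq : IsQuasisimple H) (h11 : 11 ∣ Nat.card H)
    (hz : ¬ 11 ∣ Nat.card ↥(center H)) (hlt : Nat.card H ≠ Nat.card G)
    (hne : Nat.card H ≠ 660 ∧ Nat.card H ≠ 175560) : False := by
  have e : H ≃* ↥f.range := MonoidHom.ofInjective hf
  have hc : Nat.card ↥f.range = Nat.card H := (Nat.card_congr e.toEquiv).symm
  refine false_of_quasi h hl h2 (M := f.range) ?_ (by rw [hc]; exact h11) ?_ (by rw [hc]; exact hlt)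
    (by rw [hc]; exact hne)
  · exact (Cfsg.Agent.CpQuot.Congr.isQuasisimple_iff e).1 hq
  · rw [← Nat.card_congr (Subgroup.centerCongr e).toEquiv]
    exact hz

end Cfsg.Agent.H820.ElTool
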